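set_option autoImplicit false
namespace Cfsg.Agent.Lib.Helper6.TCD.J2X
noncomputable def QX (i : Nat) : Nat := Nat.land (Nat.shiftRight 0xbd62e57c57e3c09f3aae3a7126c1bb85cb860bdebc77668d0c0ad54968ca431b76a52242b2b548d14eb74cda92447325958709a972ca48bf7c64c3a509d98d189572d142471c361411f3c80203244079a284c0070c20581 (Nat.mul 7 (Nat.land i 127))) 127
end Cfsg.Agent.Lib.Helper6.TCD.J2X
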